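import Groth.Agent.GraphLocus.Locus
import Groth.Agent.AgBC.PoincareBC
import Groth.Agent.AVPoincare.Exists
import Groth.Agent.Rigid.Lemma
import Groth.Agent.GraphLocus.Main

/-!
Over a connected base the homomorphism of an invertible module is trivial as soon as it is on one closed fibre.
-/

set_option autoImplicit false
set_option backward.isDefEq.respectTransparency false
set_option backward.isDefEq.respectTransparency.types false
set_option linter.style.haveILetI false
set_option linter.unusedSectionVars false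
set_option maxHeartbeats 2000000
set_option synthInstance.maxHeartbeats 200000

universe u

open CategoryTheory MonoidalCategory CartesianMonoidalCategory MonObj GrpObj AlgebraicGeometry
open Groth.Agent.W7Cube (pull pull_pull pull_cls)
open Groth.Agent.AbPrim (val pull_val)
open Groth.Agent.AgBC (dn toDn toDn_left toDn_one prD)
open Groth.Agent.AgSymm (Poincare)

noncomputable section

namespace Groth.Agent.LamRigid

attribute [local instance] W7Cube.law

variable {S : Scheme.{u}} {A At : Over S} [GrpObj A] [IsCommMonObj A] [GrpObj At] [IsCommMonObj At]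
  [IsProper A.hom] [Smooth A.hom] [GeometricallyConnected A.hom] {φ : AgPol.DualMap A At}

/-- the homomorphism of a module is that of a rigidified class -/
theorem exists_rigid (hA : AbDual.IsDualAV Scheme.fppfPrecoverage A At φ) {L : A.left.Modules}
    (hL : PicF.IsInvertible L) {lam : A ⟶ At} (hlam : AgPol.IsLambda A At φ L lam) :
    ∃ c : PicLoc.PicSet A.left, pull η[A].left c = 1 ∧ lam = GraphLocus.lamHom φ c := by
  obtain ⟨N, hN, hNs, hlam⟩ := hlam
  let c := PicGrp.cls L hL
  let e : PicLoc.PicSet (𝟙_ (Over S)).left := pull η[A].left c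
  let c' := c * (pull (toUnit A).left e)⁻¹
  have hc' : pull η[A].left c' = 1 := by
    rw [map_mul, map_inv, pull_pull, ← Over.comp_left, toUnit_unique (η[A] ≫ toUnit A) (𝟙 _), Over.id_left,
      show pull (𝟙 (𝟙_ (Over S)).left) e = e from PicGrp.pullHom_id_apply _ _]
    exact mul_inv_cancel _
  refine ⟨c', hc', ?_⟩
  have hT : ∀ (a : A ⊗ A ⟶ A), pull a.left (pull (toUnit A).left e) = pull (toUnit (A ⊗ A)).left e := fun a => by
    rw [pull_pull, ← Over.comp_left, toUnit_unique (a ≫ toUnit A) (toUnit _)]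
  have hdiff : PicGrp.cls N hN = GraphLocus.lamCls c' * pull (snd A A).left (pull (toUnit A).left e)⁻¹ := by
    rw [(GraphLocus.isLambdaSheaf_iff _ _ _ L hL N hN).1 hNs]
    simp only [GraphLocus.lamCls, c', map_mul, map_inv, hT]
    apply Additive.ofMul.injective
    simp only [ofMul_mul, ofMul_inv, c]
    abel
  rw [← hlam, GraphLocus.lamHom, ← AbPrim.phi_mul_base hA (GraphLocus.picZero_lamCls hc')
    (pull (toUnit A).left e)⁻¹, ← hdiff]
  rfl

set_option maxHeartbeats 4000000 in
/-- **rigidity of the homomorphism of a module** -/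
theorem eq_one_of_fibre [IsLocallyNoetherian S] [ConnectedSpace S]
    (hA : AbDual.IsDualAV Scheme.fppfPrecoverage A At φ) {c : PicLoc.PicSet A.left} (hc : pull η[A].left c = 1)
    (s : S) (h : (Over.pullback (S.fromSpecResidueField s)).map (GraphLocus.lamHom φ c) = 1) :
    GraphLocus.lamHom φ c = 1 := by
  obtain ⟨ξ, -, hξ⟩ := AVPoincare.exists_isPoincareCl hA
  obtain ⟨P, -⟩ := AgSymm.exists_poincare hξ
  let l := GraphLocus.lamHom φ c
  haveI : IsMonHom l := GraphLocus.isMonHom_lamHom hc P hA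
  haveI : IsLocallyNoetherian A.left := LocallyOfFiniteType.isLocallyNoetherian A.hom
  haveI : GeometricallyReduced A.hom := Rigid.geometricallyReduced_of_smooth _
  obtain ⟨Z, z, hzc, hz⟩ := GraphLocus.exists_trivLocus (A := A) (U₀ := A) (GraphLocus.lamCls c)
    (GraphLocus.val_lamCls_one hc _)
  haveI := hzc
  have hzu : ∀ (U : Over S) [IsLocallyNoetherian U.left] (u : U ⟶ A), (∃ y, y ≫ z = u) ↔ u ≫ l = 1 := fun U _ u =>
    (hz U u).trans (GraphLocus.comp_lamHom_eq_one_iff hc P hA u).symm
  have hone : ∀ (U : Over S), ((1 : U ⟶ At)).left = U.hom ≫ η[At].left := fun U => by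
    rw [Hom.one_def, Over.comp_left, Over.toUnit_left]
  let W : Set S := {t | ∀ a : A.left, A.hom a = t → a ∈ Set.range z.left}
  have hWc : IsClosed W := by
    have e : Wᶜ = A.hom '' (Set.range z.left)ᶜ := by
      ext t
      simp only [W, Set.mem_compl_iff, Set.mem_setOf_eq, not_forall, Set.mem_image]
      exact ⟨fun ⟨a, ha, ha'⟩ => ⟨a, ha', ha⟩, fun ⟨a, ha', ha⟩ => ⟨a, ha, ha'⟩⟩
    exact isOpen_compl_iff.1 (e ▸ A.hom.isOpenMap _ z.left.isClosedEmbedding.isClosed_range.isOpen_compl)
  haveI : IsLocallyNoetherian Z.left := LocallyOfFiniteType.isLocallyNoetherian z.left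
  have hzl : z ≫ l = 1 := (hzu Z z).1 ⟨𝟙 Z, Category.id_comp z⟩
  have hloc : ∀ t ∈ W, ∃ U : S.Opens, t ∈ U ∧ (A.hom ⁻¹ᵁ U).ι ≫ l.left = (A.hom ⁻¹ᵁ U).ι ≫ (1 : A ⟶ At).left := by
    intro t ht
    obtain ⟨U, htU, hU⟩ := Rigid.exists_eq_section_of_collapsed A.hom (Rigid.goodFibres_of_geometrically A.hom)
      η[A].left (Over.w η[A]) l.left t (by
      rintro _ ⟨a, ha, rfl⟩ _ ⟨b, hb, rfl⟩
      obtain ⟨a', rfl⟩ := ht a ha
      obtain ⟨b', rfl⟩ := ht b hb
      have e : z.left ≫ l.left = Z.hom ≫ η[At].left := by rw [← Over.comp_left, hzl, hone]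
      have key : ∀ x, l.left (z.left x) = η[At].left (A.hom (z.left x)) := fun x => by
        rw [← Scheme.Hom.comp_apply, e, Scheme.Hom.comp_apply, ← Over.w z]
        rfl
      rw [key, key, show A.hom (z.left a') = t from ha, show A.hom (z.left b') = t from hb])
    exact ⟨U, htU, by rw [hU, ← Over.comp_left, IsMonHom.one_hom, hone]⟩
  have hWo : IsOpen W := isOpen_iff_forall_mem_open.2 fun t ht => by
    obtain ⟨U, htU, hU⟩ := hloc t ht
    refine ⟨U, fun t' ht' a ha => ?_, U.2, htU⟩
    let O := A.hom ⁻¹ᵁ U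
    let V : Over S := Over.mk (O.ι ≫ A.hom)
    let v : V ⟶ A := Over.homMk O.ι
    haveI : IsLocallyNoetherian V.left := inferInstanceAs (IsLocallyNoetherian O.toScheme)
    obtain ⟨y, hy⟩ := (hzu V v).2 (Over.OverMorphism.ext (by
      rw [Over.comp_left, hone]
      exact hU.trans (by rw [hone, ← Category.assoc]; rfl)))
    exact ⟨y.left ⟨a, show A.hom a ∈ U from ha ▸ ht'⟩, congrArg (fun f : V ⟶ A => f.left ⟨a, _⟩) hy⟩
  have hs : s ∈ W := by
    let τ := S.fromSpecResidueField s
    have h1 : prD τ A ≫ l = 1 := by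
      refine Eq.trans (Over.OverMorphism.ext ?_) (toDn_one (P := At) τ (U := Red.bc τ A))
      rw [← h, toDn_left, Over.comp_left]
      simp [prD, Over.pullback, l]
      exact (Limits.pullback.lift_fst _ _ _).symm
    haveI : IsLocallyNoetherian (dn τ (Red.bc τ A)).left :=
      LocallyOfFiniteType.isLocallyNoetherian (Limits.pullback.snd A.hom τ)
    obtain ⟨y, hy⟩ := (hzu _ _).2 h1
    intro a ha
    obtain ⟨a', rfl⟩ := (A.hom.range_fiberι s).ge ha
    exact ⟨y.left a', (congrArg (fun f : dn τ (Red.bc τ A) ⟶ A => f.left a') hy).trans rfl⟩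
  have hW : ∀ t, t ∈ W := by
    rcases isClopen_iff.1 ⟨hWc, hWo⟩ with e | e
    · exact absurd hs (by rw [e]; exact Set.notMem_empty s)
    · exact fun t => e ▸ Set.mem_univ t
  refine Over.OverMorphism.ext (Rigid.hom_ext_of_forall _ _ fun a => ?_)
  obtain ⟨U, htU, hU⟩ := hloc _ (hW (A.hom a))
  exact ⟨A.hom ⁻¹ᵁ U, htU, hU⟩

end Groth.Agent.LamRigid
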